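import Mathlib
import Groth.Agent.BlowChartLib.AffineCrit
import Groth.Agent.BlowCompLib.Flat
import Groth.Prelude.Def_CurvBase

/-!
# Lifting to a scheme with one point over each divisorial algebra
-/

set_option autoImplicit false
set_option linter.style.haveILetI false
set_option backward.isDefEq.respectTransparency false

universe u

open CategoryTheory CategoryTheory.Limits AlgebraicGeometry TopologicalSpace

namespace Groth.Agent.QuotProdLib

open BlowChartLib

variable {R : Type u} [CommRing R]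

theorem secHom_comp {S : Type u} [CommRing S] (φ : R →+* S) {T : Scheme.{u}}
    (c : T ⟶ Spec (CommRingCat.of S)) (V : T.affineOpens) :
    secHom (c ≫ Spec.map (CommRingCat.ofHom φ)) V.1 = (secHom c V.1).comp φ := by
  have h : CommRingCat.ofHom (secHom (c ≫ Spec.map (CommRingCat.ofHom φ)) V.1) =
      CommRingCat.ofHom φ ≫ CommRingCat.ofHom (secHom c V.1) := by
    apply Spec.map_injective
    rw [fromSpec_secHom, Spec.map_comp, fromSpec_secHom, Category.assoc]
  exact congrArg CommRingCat.Hom.hom h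

theorem map_secHom_eq_bot {J : Ideal R} {T : Scheme.{u}} (c : T ⟶ Spec (CommRingCat.of (R ⧸ J))) (V : T.affineOpens) :
    J.map (secHom (c ≫ Spec.map (CommRingCat.ofHom (Ideal.Quotient.mk J))) V.1) = ⊥ := by
  rw [secHom_comp, ← Ideal.map_map, Ideal.map_quotient_self, Ideal.map_bot]

variable (I J : Ideal R) (B : Over (Spec (CommRingCat.of R)))

/-- One point over every algebra where `I` is a divisor and `J` vanishes. -/
def HasUniquePoints : Prop :=
  ∀ (A : CommAlgCat.{u} R) (t : A), t ∈ nonZeroDivisors A → I.map (algebraMap R A) = Ideal.span {t} →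
    J.map (algebraMap R A) = ⊥ → Nonempty (Unique (Over.mk (Spec.map (CommRingCat.ofHom (algebraMap R A))) ⟶ B))

variable {I J B}

theorem existsUnique_affine (hB : HasUniquePoints I J B) {T : Scheme.{u}} {g : T ⟶ Spec (CommRingCat.of R)}
    (c : T ⟶ Spec (CommRingCat.of (R ⧸ J))) (hc : c ≫ Spec.map (CommRingCat.ofHom (Ideal.Quotient.mk J)) = g)
    (V : T.affineOpens) {f : Γ(T, V.1)} (hf : f ∈ nonZeroDivisors Γ(T, V.1))
    (hI : ((Curv2.idealSheaf R I).comap g).ideal V = Ideal.span {f}) :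
    ∃! h : Spec Γ(T, V.1) ⟶ B.left, h ≫ B.hom = V.2.fromSpec ≫ g := by
  letI : Algebra R Γ(T, V.1) := (secHom g V.1).toAlgebra
  obtain ⟨hu⟩ := hB (CommAlgCat.of R Γ(T, V.1)) f hf ((ideal_comap_idealSheaf g I V).symm.trans hI)
    (by subst hc; exact map_secHom_eq_bot c V)
  have hw : Spec.map (CommRingCat.ofHom (secHom g V.1)) = V.2.fromSpec ≫ g := fromSpec_secHom g V
  refine ⟨hu.default.left, (Over.w hu.default).trans hw, fun h hh => ?_⟩
  exact congrArg CommaMorphism.left (hu.uniq (Over.homMk h (hh.trans hw.symm)))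

theorem hom_ext (hB : HasUniquePoints I J B) {T : Scheme.{u}} {g : T ⟶ Spec (CommRingCat.of R)}
    (c : T ⟶ Spec (CommRingCat.of (R ⧸ J))) (hc : c ≫ Spec.map (CommRingCat.ofHom (Ideal.Quotient.mk J)) = g)
    (hC : BlowUp.IsEffCartierIdeal ((Curv2.idealSheaf R I).comap g)) {h h' : T ⟶ B.left}
    (hh : h ≫ B.hom = g) (hh' : h' ≫ B.hom = g) : h = h' := by
  choose V hxV f hf hI using hC
  refine Scheme.Cover.hom_ext (T.openCoverOfIsOpenCover (fun x => (V x).1)
    (TopologicalSpace.IsOpenCover.mk (top_le_iff.1 fun x _ => TopologicalSpace.Opens.mem_iSup.2 ⟨x, hxV x⟩))) h h' fun (x : T) => ?_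
  show (V x).1.ι ≫ h = (V x).1.ι ≫ h'
  rw [← cancel_epi (V x).2.isoSpec.inv]
  exact (existsUnique_affine hB c hc (V x) (hf x) (hI x)).unique
    ((Category.assoc _ _ _).trans (congrArg ((V x).2.fromSpec ≫ ·) hh))
    ((Category.assoc _ _ _).trans (congrArg ((V x).2.fromSpec ≫ ·) hh'))

theorem exists_lift (hB : HasUniquePoints I J B) {T : Scheme.{u}} {g : T ⟶ Spec (CommRingCat.of R)}
    (c : T ⟶ Spec (CommRingCat.of (R ⧸ J))) (hc : c ≫ Spec.map (CommRingCat.ofHom (Ideal.Quotient.mk J)) = g)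
    (hC : BlowUp.IsEffCartierIdeal ((Curv2.idealSheaf R I).comap g)) : ∃ h : T ⟶ B.left, h ≫ B.hom = g := by
  have hC' := hC
  choose V hxV f hf hI using hC'
  let 𝒰 := T.openCoverOfIsOpenCover (fun x => (V x).1)
    (TopologicalSpace.IsOpenCover.mk (top_le_iff.1 fun x _ => TopologicalSpace.Opens.mem_iSup.2 ⟨x, hxV x⟩))
  have hex : ∀ x : T, ∃ a : 𝒰.X x ⟶ B.left, a ≫ B.hom = 𝒰.f x ≫ g := fun x => by
    obtain ⟨a, ha, -⟩ := existsUnique_affine hB c hc (V x) (hf x) (hI x)
    refine ⟨(V x).2.isoSpec.hom ≫ a, ?_⟩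
    rw [Category.assoc, ha, ← Category.assoc]
    exact congrArg (· ≫ g) ((V x).2.isoSpec_hom_fromSpec)
  choose a ha using hex
  have hcompat : ∀ x y : T, pullback.fst (𝒰.f x) (𝒰.f y) ≫ a x = pullback.snd (𝒰.f x) (𝒰.f y) ≫ a y := fun x y => by
    refine hom_ext hB ((pullback.fst (𝒰.f x) (𝒰.f y) ≫ 𝒰.f x) ≫ c)
      (g := (pullback.fst (𝒰.f x) (𝒰.f y) ≫ 𝒰.f x) ≫ g) (by rw [Category.assoc, hc]) ?_
      (by rw [Category.assoc, ha, Category.assoc]) (by rw [Category.assoc, ha, ← pullback.condition_assoc, Category.assoc])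
    rw [Scheme.IdealSheafData.comap_comp]
    exact BlowCompLib.isEffCartier_comap_openImmersion hC _
  refine ⟨𝒰.glueMorphisms a hcompat, 𝒰.hom_ext _ _ fun x => ?_⟩
  rw [Scheme.Cover.ι_glueMorphisms_assoc, ha]

end Groth.Agent.QuotProdLib
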