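import Groth.Agent.QuotProdLib.Points
import Groth.Agent.QuotProdLib.Scheme
import Groth.Agent.S1622

/-!
# The product of the two Quot schemes over the degeneracy locus
-/

set_option autoImplicit false
set_option linter.style.haveILetI false
set_option backward.isDefEq.respectTransparency false

universe u

open CategoryTheory CategoryTheory.Limits AlgebraicGeometry TopologicalSpace TensorProduct

namespace Groth.Agent.QuotProdLib

open BlowChartLib

variable {R : Type u} [CommRing R] {m δ d : ℕ} (σ : (Fin m → R) →ₗ[R] (Fin (m + δ) → R))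
    {Bp Bm : Over (Spec (CommRingCat.of R))}
    (ep : ∀ A : CommAlgCat.{u} R, (Over.mk (Spec.map (CommRingCat.ofHom (algebraMap R A))) ⟶ Bp) ≃
      (Module.Grassmannian.functor (R := R) (M := Mp σ) d).obj A)
    (em : ∀ A : CommAlgCat.{u} R, (Over.mk (Spec.map (CommRingCat.ofHom (algebraMap R A))) ⟶ Bm) ≃
      (Module.Grassmannian.functor (R := R) (M := Km σ) (d - δ)).obj A)

include ep em in
theorem isLocPrincipal (hd : δ ≤ d) :
    Curv2.IsLocPrincipal ((Curv2.idealSheaf R (Fitt.ideal R (Mp σ) d)).comap (pullback.fst Bp.hom Bm.hom ≫ Bp.hom)) := by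
  intro x _
  let g := pullback.fst Bp.hom Bm.hom ≫ Bp.hom
  obtain ⟨_, ⟨V, hV, rfl⟩, hxV, -⟩ :=
    (pullback Bp.hom Bm.hom).isBasis_affineOpens.exists_subset_of_mem_open (Set.mem_univ x) isOpen_univ
  let I : Ideal Γ(pullback Bp.hom Bm.hom, V) := (Fitt.ideal R (Mp σ) d).map (secHom g V)
  let p := (hV.primeIdealOf ⟨x, hxV⟩).asIdeal
  let L := Localization.AtPrime p
  let ρ : R →+* L := (algebraMap Γ(pullback Bp.hom Bm.hom, V) L).comp (secHom g V)
  letI : Algebra R L := ρ.toAlgebra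
  let q : Spec (CommRingCat.of L) ⟶ pullback Bp.hom Bm.hom :=
    Spec.map (CommRingCat.ofHom (algebraMap Γ(pullback Bp.hom Bm.hom, V) L)) ≫ hV.fromSpec
  have hq : Spec.map (CommRingCat.ofHom (algebraMap R L)) = q ≫ g := by
    show Spec.map (CommRingCat.ofHom (secHom g V) ≫ CommRingCat.ofHom (algebraMap Γ(pullback Bp.hom Bm.hom, V) L)) = _
    rw [Spec.map_comp, fromSpec_secHom g ⟨V, hV⟩, Category.assoc]
  let Np := ep (CommAlgCat.of R L) (Over.homMk (q ≫ pullback.fst Bp.hom Bm.hom) ((Category.assoc _ _ _).trans hq.symm))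
  let Nm := em (CommAlgCat.of R L) (Over.homMk (q ≫ pullback.snd Bp.hom Bm.hom)
    ((Category.assoc _ _ _).trans ((congrArg (q ≫ ·) pullback.condition).symm.trans hq.symm)))
  obtain ⟨f₀, hf₀⟩ := exists_map_eq_span σ hd L Np Nm
  have hI : I.map (algebraMap _ L) = Ideal.span {f₀} := by
    rw [Ideal.map_map]; exact hf₀
  obtain ⟨⟨⟨a, haI⟩, w⟩, hw⟩ := (IsLocalization.mem_map_algebraMap_iff p.primeCompl L).1
    (hI ▸ Ideal.mem_span_singleton_self f₀ : f₀ ∈ I.map (algebraMap _ L))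
  have hspan : I.map (algebraMap _ L) = Ideal.span {algebraMap _ L a} := by
    rw [hI, ← hw, Ideal.span_singleton_mul_right_unit (IsLocalization.map_units L w)]
  haveI : Module.FinitePresentation R (Mp σ) :=
    Module.finitePresentation_of_surjective (LinearMap.range σ).mkQ (Submodule.mkQ_surjective _) (by
      rw [Submodule.ker_mkQ, LinearMap.range_eq_map]
      exact Submodule.FG.map _ Module.Finite.fg_top)
  obtain ⟨G, hG⟩ : I.FG := Ideal.FG.map (GenRankLib.fitt_fg (Mp σ) d) _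
  have hg : ∀ g ∈ G, ∃ s, s ∉ p ∧ s * g ∈ Ideal.span {a} := fun g hg => by
    have h1 : algebraMap _ L g ∈ (Ideal.span {a}).map (algebraMap _ L) := by
      rw [Ideal.map_span, Set.image_singleton, ← hspan]
      exact Ideal.mem_map_of_mem _ (hG ▸ Ideal.subset_span hg)
    obtain ⟨s, hs, hsg⟩ := (IsLocalization.algebraMap_mem_map_algebraMap_iff p.primeCompl L _ g).1 h1
    exact ⟨s, hs, hsg⟩
  choose s hs hsg using hg
  let S := ∏ g : G, s g.1 g.2
  have hS : S ∉ p := fun h => by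
    obtain ⟨g, -, hgp⟩ := (Ideal.IsPrime.prod_mem_iff (p := p)).1 h
    exact hs g.1 g.2 hgp
  let V' : (pullback Bp.hom Bm.hom).affineOpens := ⟨(pullback Bp.hom Bm.hom).basicOpen S, hV.basicOpen S⟩
  have hxV' : x ∈ V'.1 := by
    show x ∈ (pullback Bp.hom Bm.hom).basicOpen S
    have h1 : hV.fromSpec (hV.primeIdealOf ⟨x, hxV⟩) = x := hV.fromSpec_primeIdealOf ⟨x, hxV⟩
    rw [← h1]
    show hV.primeIdealOf ⟨x, hxV⟩ ∈ hV.fromSpec ⁻¹ᵁ (pullback Bp.hom Bm.hom).basicOpen S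
    rw [hV.fromSpec_preimage_basicOpen]
    exact hS
  refine ⟨V', hxV', ((pullback Bp.hom Bm.hom).presheaf.map (homOfLE ((pullback Bp.hom Bm.hom).basicOpen_le S)).op) a, ?_⟩
  let ρV := ((pullback Bp.hom Bm.hom).presheaf.map (homOfLE ((pullback Bp.hom Bm.hom).basicOpen_le S)).op).hom
  letI : Algebra Γ(pullback Bp.hom Bm.hom, V) Γ(pullback Bp.hom Bm.hom, V'.1) := ρV.toAlgebra
  haveI : IsLocalization.Away S Γ(pullback Bp.hom Bm.hom, V'.1) := hV.isLocalization_basicOpen S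
  have e1 := ((Curv2.idealSheaf R (Fitt.ideal R (Mp σ) d)).comap g).map_ideal_basicOpen ⟨V, hV⟩ S
  rw [ideal_comap_idealSheaf g _ ⟨V, hV⟩] at e1
  refine e1.symm.trans (le_antisymm (Ideal.map_le_iff_le_comap.2 ?_) ?_)
  · show I ≤ _
    rw [← hG, Ideal.span_le]
    intro g hg
    show ρV g ∈ Ideal.span {ρV a}
    have hu : IsUnit (ρV (s g hg)) := isUnit_of_dvd_unit
      (map_dvd ρV (Finset.dvd_prod_of_mem (fun g : G => s g.1 g.2) (Finset.mem_univ ⟨g, hg⟩)))
      (IsLocalization.Away.algebraMap_isUnit (S := Γ(pullback Bp.hom Bm.hom, V'.1)) S)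
    rw [← Ideal.unit_mul_mem_iff_mem _ hu, ← map_mul, ← Set.image_singleton, ← Ideal.map_span]
    exact Ideal.mem_map_of_mem _ (hsg g hg)
  · rw [Ideal.span_le, Set.singleton_subset_iff]
    exact Ideal.mem_map_of_mem ρV haI

variable {σ}

include ep em in
theorem hasUniquePoints (hd : δ ≤ d) (hσ : Function.Injective σ) :
    HasUniquePoints (Fitt.ideal R (Mp σ) d) (⨆ j < d, Fitt.ideal R (Mp σ) j) Bp ∧
      HasUniquePoints (Fitt.ideal R (Mp σ) d) (⨆ j < d, Fitt.ideal R (Mp σ) j) Bm := by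
  refine ⟨fun A t ht hI hJ => ?_, fun A t ht hI hJ => ?_⟩ <;>
    obtain ⟨⟨h1⟩, ⟨h2⟩⟩ := unique_points σ hd hσ A ht hI fun j hj =>
      le_bot_iff.1 ((Ideal.map_mono (le_iSup₂ (f := fun j (_ : j < d) => Fitt.ideal R (Mp σ) j) j hj)).trans hJ.le)
  · exact ⟨@Equiv.unique _ _ h1 (ep A)⟩
  · exact ⟨@Equiv.unique _ _ h2 (em A)⟩

end Groth.Agent.QuotProdLib
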