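import Groth.Agent.QuotProdLib.Principal
import Groth.Agent.S14347
import Groth.Agent.GenRankLib.Locus

/-!
# Points of the two Quot schemes and the Fitting ideals
-/

set_option autoImplicit false
set_option linter.style.haveILetI false

universe u v

open TensorProduct Module

namespace Groth.Agent.QuotProdLib

variable {R : Type u} [CommRing R] {m δ : ℕ} (σ : (Fin m → R) →ₗ[R] (Fin (m + δ) → R))

/-- The cokernel. -/
abbrev Mp : Type u := (Fin (m + δ) → R) ⧸ LinearMap.range σ

/-- The cokernel of the transpose. -/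
abbrev Km : Type u := Module.Dual R (Fin m → R) ⧸ LinearMap.range σ.dualMap

theorem span_single_smul {A : Type u} [CommRing A] [Algebra R A] {G : Type v} [AddCommGroup G] [Module R G]
    {n : ℕ} (g : Fin n → G) (hg : Submodule.span R (Set.range g) = ⊤) :
    Function.Surjective (Fintype.linearCombination A fun l => (1 : A) ⊗ₜ[R] g l) := by
  rw [← LinearMap.range_eq_top, Fintype.range_linearCombination]
  refine eq_top_iff.2 fun t _ => ?_
  induction t using TensorProduct.induction_on with
  | zero => exact zero_mem _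
  | add a b ha hb => exact add_mem (ha trivial) (hb trivial)
  | tmul a q =>
    obtain ⟨c, rfl⟩ := (Submodule.mem_span_range_iff_exists_fun R).1 (hg ▸ Submodule.mem_top : q ∈ _)
    rw [TensorProduct.tmul_sum]
    refine sum_mem fun l _ => ?_
    rw [show a ⊗ₜ[R] (c l • g l) = (c l • a) • ((1 : A) ⊗ₜ[R] g l) by
      rw [TensorProduct.smul_tmul', smul_eq_mul, mul_one, TensorProduct.smul_tmul]]
    exact Submodule.smul_mem _ _ (Submodule.subset_span ⟨l, rfl⟩)

theorem span_mk_basis {G : Type v} [AddCommGroup G] [Module R G] {n : ℕ} (b : Basis (Fin n) R G)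
    (S : Submodule R G) : Submodule.span R (Set.range fun i => S.mkQ (b i)) = ⊤ := by
  rw [show (fun i => S.mkQ (b i)) = S.mkQ ∘ b from rfl, Set.range_comp, ← Submodule.map_span, b.span_eq,
    Submodule.map_top, Submodule.range_mkQ]

/-- Over a local algebra carrying both quotients the Fitting ideal is principal. -/
theorem exists_map_eq_span {d : ℕ} (hd : δ ≤ d) (A : Type u) [CommRing A] [Algebra R A] [IsLocalRing A]
    (Np : Grassmannian A (A ⊗[R] Mp σ) d) (Nm : Grassmannian A (A ⊗[R] Km σ) (d - δ)) :
    ∃ f, (Fitt.ideal R (Mp σ) d).map (algebraMap R A) = Ideal.span {f} := by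
  classical
  rw [← FittLib.ideal_baseChange A d]
  haveI : Module.Free A ((A ⊗[R] Mp σ) ⧸ Np.toSubmodule) := Module.free_of_flat_of_isLocalRing
  haveI : Module.Free A ((A ⊗[R] Km σ) ⧸ Nm.toSubmodule) := Module.free_of_flat_of_isLocalRing
  have hQ : Module.finrank A ((A ⊗[R] Mp σ) ⧸ Np.toSubmodule) = d := by
    have h := Np.rankAtStalk_eq (IsLocalRing.closedPoint A)
    rw [Module.rankAtStalk_eq_finrank_of_free] at h
    simpa using h
  have hP : Module.finrank A ((A ⊗[R] Km σ) ⧸ Nm.toSubmodule) = d - δ := by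
    have h := Nm.rankAtStalk_eq (IsLocalRing.closedPoint A)
    rw [Module.rankAtStalk_eq_finrank_of_free] at h
    simpa using h
  let n := m + δ
  let e1 : Fin n → Mp σ := fun l => (LinearMap.range σ).mkQ (Pi.basisFun R (Fin n) l)
  let db := (Pi.basisFun R (Fin m)).dualBasis
  let e2 : Fin m → Km σ := fun i => (LinearMap.range σ.dualMap).mkQ (db i)
  let col : Fin m → (Fin n → A) := fun i l => algebraMap R A (σ (Pi.basisFun R (Fin m) i) l)
  let pres := Fintype.linearCombination A fun l => (1 : A) ⊗ₜ[R] e1 l
  let sK := Fintype.linearCombination A fun i => (1 : A) ⊗ₜ[R] e2 i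
  have hone : ∀ {G : Type u} [AddCommGroup G] [Module R G] (r : R) (g : G),
      algebraMap R A r • ((1 : A) ⊗ₜ[R] g) = (1 : A) ⊗ₜ[R] (r • g) := fun r g => by
    rw [TensorProduct.tmul_smul, algebraMap_smul]
  refine exists_ideal_eq_span (G := A ⊗[R] Mp σ) (m := m) (n := n) (k := d - δ) (by omega) col pres
    (span_single_smul e1 (span_mk_basis _ _)) ?_ (Module.finBasisOfFinrankEq A _ hQ)
    Np.toSubmodule.mkQ (Submodule.mkQ_surjective _) (Module.finBasisOfFinrankEq A _ hP)
    (Nm.toSubmodule.mkQ ∘ₗ sK) ((Submodule.mkQ_surjective _).comp (span_single_smul e2 (span_mk_basis db _)))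
    fun l => ?_
  · let C := Submodule.span A (Set.range col)
    let am : (Fin n → R) →ₗ[R] (Fin n → A) := LinearMap.pi fun l => (Algebra.linearMap R A) ∘ₗ LinearMap.proj l
    have hq : LinearMap.range σ ≤ LinearMap.ker ((C.mkQ.restrictScalars R) ∘ₗ am) := by
      rintro _ ⟨q, rfl⟩
      rw [← (Pi.basisFun R (Fin m)).sum_repr q, map_sum]
      refine sum_mem fun i _ => ?_
      rw [map_smul]
      refine Submodule.smul_mem _ _ ?_
      show C.mkQ (col i) = 0
      exact (Submodule.Quotient.mk_eq_zero _).2 (Submodule.subset_span ⟨i, rfl⟩)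
    let g : A ⊗[R] Mp σ →ₗ[A] (Fin n → A) ⧸ C :=
      LinearMap.liftBaseChange A (Submodule.liftQ (LinearMap.range σ) ((C.mkQ.restrictScalars R) ∘ₗ am) hq)
    have hg : g ∘ₗ pres = C.mkQ := by
      refine (Pi.basisFun A (Fin n)).ext fun l => ?_
      rw [Pi.basisFun_apply, LinearMap.comp_apply, show pres (Pi.single l 1) = (1 : A) • ((1 : A) ⊗ₜ[R] e1 l) from
        Fintype.linearCombination_apply_single A _ l 1, one_smul, LinearMap.liftBaseChange_tmul, one_smul]
      show C.mkQ (am (Pi.basisFun R (Fin n) l)) = C.mkQ (Pi.single l 1)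
      refine congrArg C.mkQ (funext fun b => ?_)
      simp [am, Pi.single_apply, apply_ite (algebraMap R A)]
    refine le_antisymm (fun z hz => ?_) (Submodule.span_le.2 ?_)
    · rw [LinearMap.mem_ker] at hz
      refine (Submodule.Quotient.mk_eq_zero C).1 ?_
      show C.mkQ z = 0
      rw [← hg, LinearMap.comp_apply, hz, map_zero]
    · rintro _ ⟨i, rfl⟩
      show pres (col i) = 0
      simp only [pres, Fintype.linearCombination_apply, col, hone, ← TensorProduct.tmul_sum]
      rw [show ∑ l, σ (Pi.basisFun R (Fin m) i) l • e1 l = 0 from ?_, TensorProduct.tmul_zero]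
      simp only [e1, ← map_smul, ← map_sum]
      refine (Submodule.Quotient.mk_eq_zero _).2 ⟨Pi.basisFun R (Fin m) i, ?_⟩
      exact ((Pi.basisFun R (Fin n)).sum_repr _).symm
  · show Nm.toSubmodule.mkQ (sK fun i => col i l) = 0
    have h0 : ∑ i, σ (Pi.basisFun R (Fin m) i) l • e2 i = 0 := by
      simp only [e2, ← map_smul, ← map_sum]
      refine (Submodule.Quotient.mk_eq_zero _).2 ⟨LinearMap.proj l, ?_⟩
      refine (Pi.basisFun R (Fin m)).ext fun b => ?_
      simp [db, Pi.single_apply]
    simp only [sK, Fintype.linearCombination_apply, col, hone, ← TensorProduct.tmul_sum]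
    rw [h0, TensorProduct.tmul_zero, map_zero]

/-- Where `Fit_d` is a divisor and the smaller ones vanish each Quot scheme has one point. -/
theorem unique_points {d : ℕ} (hd : δ ≤ d) (hσ : Function.Injective σ) (A : Type u) [CommRing A] [Algebra R A]
    {t : A} (ht : t ∈ nonZeroDivisors A) (hF : (Fitt.ideal R (Mp σ) d).map (algebraMap R A) = Ideal.span {t})
    (hlt : ∀ j < d, (Fitt.ideal R (Mp σ) j).map (algebraMap R A) = ⊥) :
    Nonempty (Unique (Grassmannian A (A ⊗[R] Mp σ) d)) ∧
      Nonempty (Unique (Grassmannian A (A ⊗[R] Km σ) (d - δ))) := by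
  haveI : Module.FinitePresentation R (Mp σ) :=
    Module.finitePresentation_of_surjective (LinearMap.range σ).mkQ (Submodule.mkQ_surjective _) (by
      rw [Submodule.ker_mkQ, LinearMap.range_eq_map]
      exact Submodule.FG.map _ Module.Finite.fg_top)
  haveI := Module.Free.of_basis (Pi.basisFun R (Fin m)).dualBasis
  haveI := Module.Finite.of_basis (Pi.basisFun R (Fin m)).dualBasis
  haveI : Module.FinitePresentation R (Module.Dual R (Fin m → R)) := Module.finitePresentation_of_projective R _
  haveI : Module.FinitePresentation R (Km σ) :=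
    Module.finitePresentation_of_surjective (LinearMap.range σ.dualMap).mkQ (Submodule.mkQ_surjective _) (by
      rw [Submodule.ker_mkQ, LinearMap.range_eq_map]
      exact Submodule.FG.map _ Module.Finite.fg_top)
  have hK : ∀ j, (Fitt.ideal R (Km σ) j).map (algebraMap R A) = (Fitt.ideal R (Mp σ) (δ + j)).map (algebraMap R A) :=
    fun j => by rw [← (S14347.result R m (m + δ) σ hσ).1 j, Nat.add_sub_cancel_left]
  constructor
  · exact existsUnique_point ht (by rw [FittLib.ideal_baseChange, hF])
      (fun j hj => by rw [FittLib.ideal_baseChange, hlt j hj])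
  · refine existsUnique_point ht ?_ fun j hj => ?_
    · rw [FittLib.ideal_baseChange, hK, Nat.add_sub_cancel' hd, hF]
    · rw [FittLib.ideal_baseChange, hK, hlt _ (by omega)]

end Groth.Agent.QuotProdLib
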