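import Groth.Agent.QuotProdLib.Unique
import Groth.Agent.S6895

/-!
# The Fitting ideal under two complementary quotients is principal
-/

set_option autoImplicit false
set_option linter.style.haveILetI false

universe u v

open TensorProduct Module

namespace Groth.Agent.QuotProdLib

open Groth.Agent.FittLib

variable {A : Type u} [CommRing A] [IsLocalRing A]

/-- The kernel of a surjection of free modules over a local ring. -/
theorem exists_kernel_basis {n d : ℕ} {Q : Type v} [AddCommGroup Q] [Module A Q] (b : Basis (Fin d) A Q)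
    (p : (Fin n → A) →ₗ[A] Q) (hp : Function.Surjective p) :
    d ≤ n ∧ Nonempty (Basis (Fin (n - d)) A (LinearMap.ker p)) := by
  haveI := Module.Free.of_basis b
  haveI := Module.Finite.of_basis b
  haveI : Module.Projective A Q := Module.Projective.of_free
  obtain ⟨s, hs⟩ := Module.projective_lifting_property p LinearMap.id hp
  let e : (Fin n → A) ≃ₗ[A] LinearMap.ker p × Q :=
    ((LinearMap.exact_subtype_ker_map p).splitSurjectiveEquiv Subtype.val_injective ⟨s, hs⟩).1
  haveI : Module.Finite A (LinearMap.ker p) := Module.Finite.of_surjective ((LinearMap.fst A _ _) ∘ₗ e.toLinearMap)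
    (Prod.fst_surjective.comp e.surjective)
  haveI : Module.Projective A (LinearMap.ker p) := Module.Projective.of_split
    (e.symm.toLinearMap ∘ₗ LinearMap.inl A _ _) ((LinearMap.fst A _ _) ∘ₗ e.toLinearMap)
    (LinearMap.ext fun x => by simp)
  haveI : Module.Free A (LinearMap.ker p) := Module.free_of_flat_of_isLocalRing
  have h : Module.finrank A (LinearMap.ker p) + d = n := by
    have := e.finrank_eq
    rw [Module.finrank_prod, Module.finrank_fin_fun, Module.finrank_eq_card_basis b, Fintype.card_fin] at this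
    exact this.symm
  exact ⟨by omega, ⟨Module.finBasisOfFinrankEq A _ (by omega)⟩⟩

/-- A module with `r` generators and relations spanned by `r` vectors. -/
theorem exists_ideal_zero_eq {N : Type v} [AddCommGroup N] [Module A N] {r : ℕ} (x : Fin r → N)
    (hx : Submodule.span A (Set.range x) = ⊤) (ζ : Fin r → (Fin r → A))
    (hζ : ∀ z : Fin r → A, ∑ a, z a • x a = 0 ↔ z ∈ Submodule.span A (Set.range ζ)) :
    ∃ f, Fitt.ideal A N 0 = Ideal.span {f} := by
  classical
  let M0 : Matrix (Fin r) (Fin r) A := Matrix.of fun a b => ζ b a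
  refine ⟨M0.det, le_antisymm ?_ ?_⟩ <;> rw [ideal_eq_minors x hx]
  · rw [Ideal.span_le]
    rintro _ ⟨z, e, hz, rfl⟩
    have hz' : ∀ j, ∃ c : Fin r → A, ∑ b, c b • ζ b = z j := fun j =>
      (Submodule.mem_span_range_iff_exists_fun A).1 ((hζ (z j)).1 (hz j))
    choose c hc using hz'
    have hmat : (Matrix.of fun a b => z b (e a)) = M0.submatrix e id * Matrix.of (fun b j => c j b) := by
      ext a j
      rw [Matrix.mul_apply, Matrix.of_apply, ← hc j, Finset.sum_apply]
      exact Finset.sum_congr rfl fun b _ => by simp [M0, mul_comm]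
    rw [SetLike.mem_coe, hmat, Matrix.det_mul]
    refine Ideal.mul_mem_right _ _ ?_
    by_cases he : Function.Bijective e
    · rw [show M0.submatrix e id = M0.submatrix (Equiv.ofBijective e he) id from rfl, Matrix.det_permute]
      exact Ideal.mul_mem_left _ _ (Ideal.mem_span_singleton_self _)
    · rw [Finite.injective_iff_bijective.symm, Function.not_injective_iff] at he
      obtain ⟨a, a', h, hne⟩ := he
      rw [Matrix.det_zero_of_row_eq (M := M0.submatrix e id) hne (by funext b; simp [h])]
      exact zero_mem _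
  · rw [Ideal.span_le, Set.singleton_subset_iff]
    exact Ideal.subset_span ⟨ζ, id, fun j => (hζ (ζ j)).2 (Submodule.subset_span ⟨j, rfl⟩), rfl⟩

/-- With a rank `d` quotient of the cokernel and a rank `k` quotient of the transposed cokernel, of
complementary ranks, the `d`-th Fitting ideal is principal. -/
theorem exists_ideal_eq_span {G : Type v} [AddCommGroup G] [Module A G] [Module.Finite A G] {m n d k : ℕ}
    (hnum : n + k = m + d) (col : Fin m → (Fin n → A)) (pres : (Fin n → A) →ₗ[A] G)
    (hpres : Function.Surjective pres) (hker : LinearMap.ker pres = Submodule.span A (Set.range col))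
    {Q : Type v} [AddCommGroup Q] [Module A Q] (bQ : Basis (Fin d) A Q) (p : G →ₗ[A] Q) (hp : Function.Surjective p)
    {P : Type v} [AddCommGroup P] [Module A P] (bP : Basis (Fin k) A P) (s : (Fin m → A) →ₗ[A] P)
    (hs : Function.Surjective s) (hrow : ∀ l, s (fun i => col i l) = 0) :
    ∃ f, Fitt.ideal A G d = Ideal.span {f} := by
  classical
  haveI := Module.Free.of_basis bQ
  haveI := Module.Finite.of_basis bQ
  haveI : Module.Projective A Q := Module.Projective.of_free
  obtain ⟨hdn, ⟨w⟩⟩ := exists_kernel_basis bQ (p ∘ₗ pres) (hp.comp hpres)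
  let σA : (Fin m → A) →ₗ[A] (Fin n → A) := Fintype.linearCombination A col
  have hσA : ∀ z, pres (σA z) = 0 := fun z => by
    rw [← LinearMap.mem_ker, hker, ← Fintype.range_linearCombination A]
    exact ⟨z, rfl⟩
  -- the part of the source killed by the matrix
  let sc : (Fin m → A) →ₗ[A] (Fin k → A) := bP.equivFun.toLinearMap ∘ₗ s
  have hsc : Function.Surjective sc := bP.equivFun.surjective.comp hs
  choose y hy using fun a : Fin k => hsc (Pi.single a 1)
  let v : Fin k → (Fin m → A) := fun a i => sc (Pi.single i 1) a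
  have hsum : ∀ (z : Fin m → A) (a : Fin k), sc z a = ∑ i, z i * v a i := fun z a => by
    conv_lhs => rw [pi_eq_sum_univ' z, map_sum, Finset.sum_apply]
    exact Finset.sum_congr rfl fun i _ => by rw [map_smul]; rfl
  have hv : ∀ a, σA (v a) = 0 := fun a => funext fun l => by
    have h1 : sc (fun i => col i l) a = 0 := by
      simp [sc, hrow l]
    rw [hsum] at h1
    simp only [σA, Fintype.linearCombination_apply, Finset.sum_apply, Pi.smul_apply, smul_eq_mul, Pi.zero_apply]
    rw [← h1]
    exact Finset.sum_congr rfl fun i _ => mul_comm _ _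
  let L : (Fin m → A) →ₗ[A] (Fin k → A) := LinearMap.pi fun a => Fintype.linearCombination A (y a)
  have hL : ∀ z a, L z a = ∑ i, z i * y a i := fun z a => by
    simp [L, Fintype.linearCombination_apply]
  have hLv : ∀ a, L (v a) = Pi.single a 1 := fun a => funext fun b => by
    rw [hL, show ∑ i, v a i * y b i = ∑ i, y b i * v a i from Finset.sum_congr rfl fun i _ => mul_comm _ _,
      ← hsum, hy, Pi.single_apply, Pi.single_apply]
    simp only [eq_comm]
  have hLs : Function.Surjective L := fun q => ⟨∑ a, q a • v a, by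
    rw [map_sum]
    simp only [map_smul, hLv]
    exact (pi_eq_sum_univ' q).symm⟩
  obtain ⟨hkm, ⟨c₀⟩⟩ := exists_kernel_basis (Pi.basisFun A (Fin k)) L hLs
  let r := n - d
  let c : Basis (Fin r) A (LinearMap.ker L) := c₀.reindex (finCongr (show m - k = r by omega))
  -- the kernel of the quotient
  let N := LinearMap.ker p
  haveI : Module.Projective A (G ⧸ N) := Module.Projective.of_equiv (p.quotKerEquivOfSurjective hp).symm
  obtain ⟨hNfin, ⟨e⟩⟩ := exists_split N
  let bq : Basis (Fin d) A (G ⧸ N) := bQ.map (p.quotKerEquivOfSurjective hp).symm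
  have hG : Fitt.ideal A G d = Fitt.ideal A N 0 := by
    rw [ideal_eq_of_equiv e, ideal_prod]
    rw [Finset.sum_eq_single 0 (fun i hi hne => by
      rw [S14345.ideal_free_eq_bot bq (show d - i < d by have := Finset.mem_range.1 hi; omega), Ideal.mul_bot]
      rfl) (fun h => absurd (Finset.mem_range.2 (by omega)) h)]
    rw [show Fitt.ideal A (G ⧸ N) (d - 0) = ⊤ from ideal_eq_top bq bq.span_eq le_rfl, Ideal.mul_top]
  have hwN : ∀ a, pres (w a) ∈ N := fun a => LinearMap.mem_ker.2 (w a).2
  let x : Fin r → N := fun a => ⟨pres (w a), hwN a⟩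
  have hxsum : ∀ z : Fin r → A, ((∑ a, z a • x a : N) : G) = pres (w.equivFun.symm z : Fin n → A) := fun z => by
    rw [w.equivFun_symm_apply, AddSubmonoidClass.coe_finsetSum, AddSubmonoidClass.coe_finsetSum, map_sum]
    simp [x]
    rfl
  have hx : Submodule.span A (Set.range x) = ⊤ := eq_top_iff.2 fun ⟨g, hg⟩ _ => by
    obtain ⟨q, rfl⟩ := hpres g
    refine (Submodule.mem_span_range_iff_exists_fun A).2 ⟨w.equivFun ⟨q, hg⟩, Subtype.ext ?_⟩
    rw [hxsum, LinearEquiv.symm_apply_apply]
  have hin : ∀ z, σA z ∈ LinearMap.ker (p ∘ₗ pres) := fun z => by simp [hσA]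
  let ζ : Fin r → (Fin r → A) := fun b => w.equivFun ⟨σA (c b), hin _⟩
  obtain ⟨f, hf⟩ := exists_ideal_zero_eq x hx ζ fun z => by
    let T : LinearMap.ker L →ₗ[A] (Fin r → A) :=
      w.equivFun.toLinearMap ∘ₗ (σA.codRestrict _ hin) ∘ₗ (LinearMap.ker L).subtype
    have hT : Submodule.span A (Set.range ζ) = LinearMap.range T := by
      rw [LinearMap.range_eq_map, ← c.span_eq, Submodule.map_span, ← Set.range_comp]
      rfl
    rw [hT, ← Submodule.coe_eq_zero, hxsum, ← LinearMap.mem_ker (f := pres), hker,
      ← Fintype.range_linearCombination A]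
    constructor
    · rintro ⟨q, hq⟩
      have hq0 : q - ∑ a, L q a • v a ∈ LinearMap.ker L := by
        simp only [LinearMap.mem_ker, map_sub, map_sum, map_smul, hLv]
        exact sub_eq_zero.2 (pi_eq_sum_univ' (L q))
      refine ⟨⟨_, hq0⟩, ?_⟩
      apply w.equivFun.symm.injective
      refine Subtype.ext ?_
      show ((w.equivFun.symm (w.equivFun ⟨σA (q - ∑ a, L q a • v a), hin _⟩)) : Fin n → A) = _
      rw [LinearEquiv.symm_apply_apply, ← hq]
      show σA (q - ∑ a, L q a • v a) = σA q
      simp [map_sum, hv]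
    · rintro ⟨q, rfl⟩
      refine ⟨q.1, ?_⟩
      show σA q.1 = ((w.equivFun.symm (w.equivFun ⟨σA q.1, hin _⟩)) : Fin n → A)
      rw [LinearEquiv.symm_apply_apply]
  exact ⟨f, hG.trans hf⟩

end Groth.Agent.QuotProdLib
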