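import Groth.Agent.FittLib.Principal
import Groth.Agent.FittLib.Minor
import Groth.Agent.S14345
import Mathlib.RingTheory.Grassmannian

/-!
# The only quotient of rank `k` where the `k`-th Fitting ideal is a divisor
-/

set_option autoImplicit false
set_option linter.style.haveILetI false

universe u v

open TensorProduct Module

namespace Groth.Agent.QuotProdLib

open Groth.Agent.FittLib

variable {A : Type u} [CommRing A] {G : Type v} [AddCommGroup G] [Module A G] [Module.Finite A G] {k : ℕ}

/-- A module splits over a projective quotient. -/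
theorem exists_split (N : Submodule A G) [Module.Projective A (G ⧸ N)] :
    Module.Finite A N ∧ Nonempty (G ≃ₗ[A] N × (G ⧸ N)) := by
  obtain ⟨s, hs⟩ := Module.projective_lifting_property N.mkQ LinearMap.id (Submodule.mkQ_surjective _)
  let e : G ≃ₗ[A] N × (G ⧸ N) :=
    ((LinearMap.exact_subtype_mkQ N).splitSurjectiveEquiv Subtype.val_injective ⟨s, hs⟩).1
  exact ⟨Module.Finite.of_surjective ((LinearMap.fst A _ _) ∘ₗ e.toLinearMap)
    (Prod.fst_surjective.comp e.surjective), ⟨e⟩⟩

theorem le_ann_of_point {t : A} (hF : Fitt.ideal A G k = Ideal.span {t}) (N : Grassmannian A G k) :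
    ∀ x ∈ N.toSubmodule, t • x = 0 := by
  obtain ⟨hfin, ⟨e⟩⟩ := exists_split N.toSubmodule
  have ht : t ∈ Fitt.ideal A N.toSubmodule 0 := by
    have h1 : t ∈ Fitt.ideal A G k := hF ▸ Ideal.mem_span_singleton_self t
    rw [ideal_eq_of_equiv e, ideal_prod] at h1
    refine SetLike.le_def.1 ?_ h1
    refine Finset.sum_induction _ (· ≤ Fitt.ideal A N.toSubmodule 0) (fun _ _ h h' => sup_le h h') bot_le
      fun i hi => ?_
    rcases Nat.eq_zero_or_pos i with rfl | hpos
    · exact le_trans Ideal.mul_le_inf inf_le_left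
    · rw [S14345.ideal_proj_eq_bot N.rankAtStalk_eq (show k - i < k by have := Finset.mem_range.1 hi; omega),
        Ideal.mul_bot]
      exact bot_le
  intro x hx
  exact congrArg Subtype.val (Module.mem_annihilator.1 (ideal_zero_le_annihilator ht) ⟨x, hx⟩)

/-- Where the `k`-th Fitting ideal is a divisor and the earlier ones vanish there is exactly one rank `k` quotient. -/
theorem existsUnique_point [Module.FinitePresentation A G] {t : A} (ht : t ∈ nonZeroDivisors A)
    (hF : Fitt.ideal A G k = Ideal.span {t}) (hlt : ∀ j < k, Fitt.ideal A G j = ⊥) :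
    Nonempty (Unique (Grassmannian A G k)) := by
  classical
  let K := LinearMap.ker (t • (LinearMap.id : G →ₗ[A] G))
  have hmem : ∀ x, x ∈ K ↔ t • x = 0 := fun x => LinearMap.mem_ker
  have huniq : ∀ N : Grassmannian A G k, N.toSubmodule = K := fun N => by
    refine le_antisymm (fun x hx => (hmem x).2 (le_ann_of_point hF N x hx)) fun x hx => ?_
    have hreg : IsSMulRegular (G ⧸ N.toSubmodule) t :=
      Module.Flat.isSMulRegular_of_isRegular (isRegular_iff_mem_nonZeroDivisors.2 ht)
    rw [← Submodule.Quotient.mk_eq_zero]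
    refine hreg ?_
    show t • Submodule.Quotient.mk x = t • (0 : G ⧸ N.toSubmodule)
    rw [← Submodule.Quotient.mk_smul, (hmem x).1 hx, Submodule.Quotient.mk_zero, smul_zero]
  obtain ⟨n₀, x₀, hx₀⟩ := Module.Finite.exists_fin (R := A) (M := G)
  let x : Fin (n₀ + k) → G := Fin.append x₀ 0
  have hx : Submodule.span A (Set.range x) = ⊤ := top_le_iff.1 (hx₀ ▸ Submodule.span_mono (by
    rintro _ ⟨i, rfl⟩
    exact ⟨Fin.castAdd k i, by simp [x]⟩))
  have hk' : k = 0 ∨ D A x (k - 1) = ⊥ := by
    rcases Nat.eq_zero_or_pos k with h | h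
    · exact Or.inl h
    · exact Or.inr (by rw [← ideal_eq_D x hx]; exact hlt _ (by omega))
  have hloc := exists_bijective_quot hx ht (by rwa [← ideal_eq_D x hx]) hk' (Nat.le_add_left k n₀)
  haveI hproj : Module.Projective A (G ⧸ K) := projective_of_local_free fun p => by
    obtain ⟨g, ψ, hg, hb⟩ := hloc p
    exact ⟨g, k, ψ, hg, hb⟩
  have hrank : ∀ p, rankAtStalk (R := A) (G ⧸ K) p = k := fun p => by
    obtain ⟨g, ψ, hg, hb⟩ := hloc p
    let L := Localization.Away g
    obtain ⟨q, hq⟩ : p ∈ Set.range (PrimeSpectrum.comap (algebraMap A L)) := by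
      rw [PrimeSpectrum.localization_away_comap_range L g]; exact hg
    haveI : Nontrivial L := q.nontrivial
    let b : Module.Basis (Fin k) L (L ⊗[A] (G ⧸ K)) := (Pi.basisFun L (Fin k)).map
      (((TensorProduct.piScalarRight A L L (Fin k)).symm.trans
        (LocalizedModule.equivTensorProduct (Submonoid.powers g) (Fin k → A)).symm).trans
          ((LinearEquiv.ofBijective _ hb).trans
            (LocalizedModule.equivTensorProduct (Submonoid.powers g) (G ⧸ K))))
    haveI := Module.Free.of_basis b
    rw [← hq, ← rankAtStalk_baseChange, rankAtStalk_eq_finrank_of_free]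
    exact (Module.finrank_eq_card_basis b).trans (Fintype.card_fin k)
  refine ⟨⟨⟨⟨K, inferInstance, hproj, hrank⟩⟩, fun N => ?_⟩⟩
  obtain ⟨S, h1, h2, h3⟩ := N
  obtain rfl : S = K := huniq ⟨S, h1, h2, h3⟩
  rfl

end Groth.Agent.QuotProdLib
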